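import Groth.Agent.RootSys.Dominant
import Groth.Agent.RootSys.PosRoots
import Groth.Agent.S5459
import Groth.Agent.S5485

/-!
# Closed sets of roots without opposite roots lie in positive systems
-/

set_option autoImplicit false

noncomputable section
open Function Set

namespace Groth.Agent.RootClosed

open Groth.Agent.RootSys

variable {ι M N : Type*} [AddCommGroup M] [AddCommGroup N] {P : RootPairing ι ℤ M N} [Finite ι]

/-- The reflected root of a root with negative pairing stays in a closed set. -/
theorem reflection_mem {R' : Set ι} (hcl : RootD.IsClosedSub P R') (hd : ∀ i ∈ R', P.reflectionPerm i i ∉ R')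
    {a x : ι} (ha : a ∈ R') (hx : x ∈ R') (hneg : P.pairing x a < 0) : P.reflectionPerm a x ∈ R' := by
  obtain ⟨m, hm⟩ : ∃ m : ℕ, P.pairing x a = -(m : ℤ) := ⟨(-P.pairing x a).toNat, by omega⟩
  have hnot : ∀ z ∈ R', P.root z ≠ -P.root a := fun z hz e => hd a ha (by
    have hza : z = P.reflectionPerm a a := P.root.injective (by rw [e, groot_opp])
    exact hza ▸ hz)
  have hpair : ∀ (j : ℕ) (z : ι), P.root z = P.root x + (j : ℤ) • P.root a → P.pairing z a = -(m : ℤ) + 2 * j :=
    fun j z e => by
    rw [← P.root_coroot'_eq_pairing, e, map_add, map_zsmul, P.root_coroot'_eq_pairing, P.root_coroot'_eq_pairing,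
      P.pairing_same, hm, smul_eq_mul]
    ring
  have low : ∀ j : ℕ, 2 * j ≤ m + 1 → ∃ z ∈ R', P.root z = P.root x + (j : ℤ) • P.root a := by
    intro j
    induction j with
    | zero => exact fun _ => ⟨x, hx, by simp⟩
    | succ j ih =>
      intro hj
      obtain ⟨z, hz, hze⟩ := ih (by omega)
      obtain ⟨w, hw⟩ := add_root_mem (P := P) (i := z) (j := a) (by rw [hpair j z hze]; omega) (hnot z hz)
      exact ⟨w, hcl hz ha hw, by rw [hw, hze]; push_cast; module⟩
  have all : ∀ j : ℕ, j ≤ m → ∃ z, P.root z = P.root x + (j : ℤ) • P.root a := by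
    intro j hj
    by_cases h : 2 * j ≤ m + 1
    · obtain ⟨z, -, hze⟩ := low j h
      exact ⟨z, hze⟩
    · obtain ⟨z, -, hze⟩ := low (m - j) (by omega)
      refine ⟨P.reflectionPerm a z, ?_⟩
      rw [P.root_reflectionPerm, P.reflection_apply, P.root_coroot'_eq_pairing, hpair _ z hze, hze,
        Nat.cast_sub hj]
      module
  have mem : ∀ j : ℕ, j ≤ m → ∃ z ∈ R', P.root z = P.root x + (j : ℤ) • P.root a := by
    intro j
    induction j with
    | zero => exact fun _ => ⟨x, hx, by simp⟩
    | succ j ih =>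
      intro hj
      obtain ⟨z, hz, hze⟩ := ih (by omega)
      obtain ⟨w, hw⟩ := all (j + 1) hj
      exact ⟨w, hcl hz ha (by rw [hw, hze]; push_cast; module), hw⟩
  obtain ⟨z, hz, hze⟩ := mem m le_rfl
  have : z = P.reflectionPerm a x := P.root.injective (by
    rw [hze, P.root_reflectionPerm, P.reflection_apply, P.root_coroot'_eq_pairing, hm]
    module)
  exact this ▸ hz

/-- The sum of a closed set without opposite roots is positive on each of its coroots. -/
theorem coroot'_sum_pos {R' : Set ι} (hcl : RootD.IsClosedSub P R') (hd : ∀ i ∈ R', P.reflectionPerm i i ∉ R')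
    {a : ι} (ha : a ∈ R') :
    0 < P.coroot' a (∑ x ∈ (Set.toFinite R').toFinset, P.root x) := by
  classical
  set F := (Set.toFinite R').toFinset with hF
  have hmem : ∀ {x}, x ∈ F ↔ x ∈ R' := fun {x} => Set.Finite.mem_toFinset _
  rw [map_sum]
  simp only [P.root_coroot'_eq_pairing]
  let N := F.filter fun x => P.pairing x a < 0
  have hnR : ∀ {x}, x ∈ N → x ∈ R' ∧ P.pairing x a < 0 := fun {x} hx =>
    ⟨hmem.1 (Finset.mem_filter.1 hx).1, (Finset.mem_filter.1 hx).2⟩
  have hrefl : ∀ x, P.pairing (P.reflectionPerm a x) a = -P.pairing x a := fun x => by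
    rw [← P.root_coroot'_eq_pairing, P.root_reflectionPerm, P.reflection_apply, map_sub, map_zsmul,
      P.root_coroot'_eq_pairing, P.root_coroot'_eq_pairing, P.pairing_same, smul_eq_mul]
    ring
  let I := N.image (P.reflectionPerm a)
  have hNI : Disjoint N I := Finset.disjoint_left.2 fun x hx hx' => by
    obtain ⟨y, hy, rfl⟩ := Finset.mem_image.1 hx'
    have := (hnR hx).2
    rw [hrefl] at this
    have := (hnR hy).2
    omega
  have haN : a ∉ N := fun h => by have := (hnR h).2; rw [P.pairing_same] at this; omega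
  have haI : a ∉ I := fun h => by
    obtain ⟨y, hy, he⟩ := Finset.mem_image.1 h
    have h2 := hrefl y
    rw [he, P.pairing_same] at h2
    have hy' : y = P.reflectionPerm a a := (P.reflectionPerm_self a y).symm.trans (congrArg (P.reflectionPerm a) he)
    exact hd a ha (hy' ▸ (hnR hy).1)
  have hsub : insert a (N ∪ I) ⊆ F := by
    intro x hx
    rcases Finset.mem_insert.1 hx with rfl | hx
    · exact hmem.2 ha
    rcases Finset.mem_union.1 hx with hx | hx
    · exact (Finset.mem_filter.1 hx).1
    · obtain ⟨y, hy, rfl⟩ := Finset.mem_image.1 hx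
      exact hmem.2 (reflection_mem hcl hd ha (hnR hy).1 (hnR hy).2)
  have h0 : ∑ x ∈ insert a (N ∪ I), P.pairing x a = 2 := by
    rw [Finset.sum_insert (by simp [haN, haI]), Finset.sum_union hNI, P.pairing_same,
      Finset.sum_image fun x _ y _ h => (P.reflectionPerm a).injective h]
    simp only [hrefl, Finset.sum_neg_distrib]
    ring
  rw [← Finset.sum_sdiff hsub, h0]
  refine add_pos_of_nonneg_of_pos (Finset.sum_nonneg fun x hx => ?_) two_pos
  obtain ⟨hxF, hxn⟩ := Finset.mem_sdiff.1 hx
  by_contra h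
  exact hxn (Finset.mem_insert_of_mem (Finset.mem_union_left _ (Finset.mem_filter.2 ⟨hxF, not_le.1 h⟩)))

/-- **A closed set of roots without opposite roots is contained in a system of positive roots.** -/
theorem exists_posSys_superset {R' : Set ι} (hcl : RootD.IsClosedSub P R')
    (hd : ∀ i ∈ R', P.reflectionPerm i i ∉ R') : ∃ S : Set ι, RootD.IsPosSys P S ∧ R' ⊆ S := by
  classical
  haveI := Fintype.ofFinite ι
  obtain ⟨Δ, -, hΔ, -, -⟩ := Groth.Agent.S5459.result P Set.univ (fun i => Or.inl trivial) fun _ _ _ _ _ _ => trivial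
  let ξ := ∑ x ∈ (Set.toFinite R').toFinset, P.root x
  let f : M →+ ℤ := (P.RootForm.flip ξ).toAddMonoidHom
  refine ⟨_, isPosSys_ties f (isPosSys_posOf hΔ), fun a ha => Or.inl ?_⟩
  have h := coroot'_sum_pos hcl hd ha
  have hp := rootForm_pos (P := P) a
  have e : P.RootForm (P.root a) (P.root a) * P.coroot' a ξ = 2 * P.RootForm (P.root a) ξ := by
    have e := congr_arg (P.toLinearMap ξ) (P.rootForm_self_smul_coroot a)
    rw [map_zsmul, map_nsmul, P.toLinearMap_apply_apply_Polarization, nsmul_eq_mul, smul_eq_mul] at e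
    exact e
  show 0 < P.RootForm (P.root a) ξ
  nlinarith [mul_pos hp h]

/-- A reduced pairing has no coroot twice another. -/
theorem two_smul_coroot_ne [P.IsReduced] (i j : ι) : (2 : ℤ) • P.coroot j ≠ P.coroot i := by
  haveI := Fintype.ofFinite ι
  intro h
  have h2 : P.root j = (2 : ℤ) • P.root i := coroot_eq_two_smul (P := P.flip) (i := j) (k := i) h.symm
  rcases RootPairing.IsReduced.eq_or_eq_neg (P := P) i j (fun hli => by
      obtain ⟨h1, -⟩ := LinearIndependent.pair_iff.1 hli 2 (-1) (by rw [h2]; module)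
      omega) with e | e <;>
  · have h3 := congrArg (P.coroot' i) e
    simp only [h2, map_neg, map_zsmul, P.root_coroot'_eq_pairing, P.pairing_same, smul_eq_mul] at h3
    omega

/-- **A closed set of roots without opposite roots is contained in the positive roots of a base.** -/
theorem exists_base_superset {ι M N : Type} [AddCommGroup M] [AddCommGroup N] {P : RootPairing ι ℤ M N} [Finite ι]
    [P.IsReduced] {R' : Set ι} (hcl : RootD.IsClosedSub P R')
    (hd : ∀ i ∈ R', P.reflectionPerm i i ∉ R') : ∃ b : P.Base, R' ⊆ RedSub.posRoots P b := by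
  classical
  obtain ⟨S, hS, hRS⟩ := exists_posSys_superset hcl hd
  have hΔ := isSimpleSys_simpleOf hS
  set Δ := simpleOf P S with hΔdef
  have hflip := Groth.Agent.S5485.result P Δ hΔ
  have heq : {j : ι | ∃ i ∈ Δ, (j = i ∧ RootD.IsIndiv P.flip i) ∨ (2 : ℤ) • P.coroot j = P.coroot i} = Δ := by
    ext j
    refine ⟨?_, fun hj => ⟨j, hj, Or.inl ⟨rfl, fun k hk => two_smul_coroot_ne j k hk⟩⟩⟩
    rintro ⟨i, hi, ⟨rfl, -⟩ | h⟩
    · exact hi
    · exact absurd h (two_smul_coroot_ne i j)
  rw [heq] at hflip
  let b : P.Base :=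
    { support := (Set.toFinite Δ).toFinset
      linearIndepOn_root := by rw [Set.Finite.coe_toFinset]; exact hΔ.linInd
      linearIndepOn_coroot := by rw [Set.Finite.coe_toFinset]; exact hflip.linInd
      root_mem_or_neg_mem := by rw [Set.Finite.coe_toFinset]; exact hΔ.mem_or_neg_mem
      coroot_mem_or_neg_mem := by rw [Set.Finite.coe_toFinset]; exact hflip.mem_or_neg_mem }
  refine ⟨b, fun a ha => ?_⟩
  show P.root a ∈ AddSubmonoid.closure (P.root '' (b.support : Set ι))
  rw [Set.Finite.coe_toFinset]
  have : a ∈ RootD.posOf P Δ := by rw [posOf_simpleOf hS]; exact hRS ha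
  exact this

end Groth.Agent.RootClosed
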